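import Groth.Agent.Lib.K0Serre9.Pairs
import Mathlib.CategoryTheory.Abelian.SerreClass.Localization
import Mathlib.CategoryTheory.Localization.CalculusOfFractions.ComposableArrows
import Mathlib.CategoryTheory.Abelian.Exact

/-!
# `K₀` of a Serre quotient
-/

set_option autoImplicit false
set_option linter.unusedSectionVars false
set_option linter.style.haveILetI false
set_option backward.isDefEq.respectTransparency false

universe v u v' u'

open CategoryTheory CategoryTheory.Limits ZeroObject

namespace Groth.Agent.K0Serre9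

variable {A : Type u} [Category.{v} A] [Abelian A] (P : ObjectProperty A) [P.IsSerreClass]

theorem clSub_iso {X Y : A} (e : X ≅ Y) (hX : P X) : KZero.clSub P X = KZero.clSub P Y := by
  have hY : P Y := P.prop_of_iso e hX
  have hZ : P (cokernel (𝟙 X)) := ObjectProperty.prop_of_isZero _ (isZero_cokernel_of_epi _)
  have h : (ShortComplex.mk e.hom (0 : Y ⟶ cokernel (𝟙 X)) comp_zero).ShortExact :=
    ShortComplex.shortExact_of_iso
      (ShortComplex.isoMk (S₁ := ShortComplex.mk (𝟙 X) (0 : X ⟶ cokernel (𝟙 X)) comp_zero)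
        (Iso.refl _) e (Iso.refl _) (by simp) (by simp))
      (K0Cat.shortExact_id_zero (isZero_cokernel_of_epi _))
  have := K0Cat.clSub_ses (P := P) _ h hX hY hZ
  simpa [K0Cat.clSub_of_isZero (isZero_cokernel_of_epi _) hZ] using this.symm

theorem prop_biprod {X Y : A} (hX : P X) (hY : P Y) : P (X ⊞ Y) :=
  P.prop_X₂_of_shortExact (ShortComplex.Splitting.ofHasBinaryBiproduct X Y).shortExact hX hY

theorem clSub_biprod {X Y : A} (hX : P X) (hY : P Y) :
    KZero.clSub P (X ⊞ Y) = KZero.clSub P X + KZero.clSub P Y :=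
  K0Cat.clSub_ses (P := P) _ (ShortComplex.Splitting.ofHasBinaryBiproduct X Y).shortExact hX
    (prop_biprod P hX hY) hY

theorem exists_eq_sub (x : KZero.K0sub P) :
    ∃ X Y : A, P X ∧ P Y ∧ x = KZero.clSub P X - KZero.clSub P Y := by
  have h0 : P (0 : A) := ObjectProperty.prop_of_isZero _ (isZero_zero A)
  induction x using K0Cat.clSub_induction with
  | h0 => exact ⟨0, 0, h0, h0, (sub_self _).symm⟩
  | hcl X hX => exact ⟨X, 0, hX, h0, by rw [K0Cat.clSub_of_isZero (isZero_zero A) h0, sub_zero]⟩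
  | hneg a ha =>
    obtain ⟨X, Y, hX, hY, rfl⟩ := ha
    exact ⟨Y, X, hY, hX, neg_sub _ _⟩
  | hadd a b ha hb =>
    obtain ⟨X, Y, hX, hY, rfl⟩ := ha
    obtain ⟨X', Y', hX', hY', rfl⟩ := hb
    refine ⟨X ⊞ X', Y ⊞ Y', prop_biprod P hX hX', prop_biprod P hY hY', ?_⟩
    rw [clSub_biprod P hX hX', clSub_biprod P hY hY']
    abel

/-- The map induced by the inclusion. -/
noncomputable def incl : KZero.K0sub P →+ KZero.K0 A :=
  K0Cat.liftSub (fun X => KZero.cl X.1) fun S _ _ _ hS => K0Cat.cl_ses S hS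

theorem incl_clSub {X : A} (h : P X) : incl P (KZero.clSub P X) = KZero.cl X := K0Cat.liftSub_clSub _ _ h

theorem incl_eq_zero_iff (x : KZero.K0sub P) : incl P x = 0 ↔
    ∃ (M : A) (φ ψ : M ⟶ M) (h₁ : φ ≫ ψ = 0) (h₂ : ψ ≫ φ = 0),
      P (ShortComplex.mk φ ψ h₁).homology ∧ P (ShortComplex.mk ψ φ h₂).homology ∧
      x = KZero.clSub P (ShortComplex.mk φ ψ h₁).homology - KZero.clSub P (ShortComplex.mk ψ φ h₂).homology := by
  constructor
  · intro hx
    obtain ⟨X, Y, hX, hY, rfl⟩ := exists_eq_sub P x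
    rw [map_sub, incl_clSub P hX, incl_clSub P hY, sub_eq_zero] at hx
    obtain ⟨M, φ, ψ, h₁, h₂, ⟨a⟩, ⟨b⟩⟩ := exists_pair hx
    exact ⟨M, φ, ψ, h₁, h₂, P.prop_of_iso a.symm hX, P.prop_of_iso b.symm hY,
      by rw [clSub_iso P a.symm hX, clSub_iso P b.symm hY]⟩
  · rintro ⟨M, φ, ψ, h₁, h₂, p₁, p₂, rfl⟩
    rw [map_sub, incl_clSub P p₁, incl_clSub P p₂, sub_eq_zero]
    exact cl_homology_eq φ ψ h₁ h₂

variable {Q : Type u'} [Category.{v'} Q] [Abelian Q]
  (L : A ⥤ Q) [L.IsLocalization P.isoModSerre] [L.Additive] [PreservesFiniteLimits L] [PreservesFiniteColimits L]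

theorem prop_kernel_of_isIso {X Y : A} (f : X ⟶ Y) (h : IsIso (L.map f)) : P (kernel f) ∧ P (cokernel f) := by
  constructor
  · exact (ObjectProperty.SerreClassLocalization.isZero_obj_iff (L := L) (P := P) _).1
      ((isZero_kernel_of_mono (L.map f)).of_iso (PreservesKernel.iso L f))
  · exact (ObjectProperty.SerreClassLocalization.isZero_obj_iff (L := L) (P := P) _).1
      ((isZero_cokernel_of_epi (L.map f)).of_iso (PreservesCokernel.iso L f))

theorem cl_eq_ker_sub_coker {X Y : A} (f : X ⟶ Y) :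
    KZero.cl X - KZero.cl Y = KZero.cl (kernel f) - KZero.cl (cokernel f) := by
  have h1 := K0Cat.cl_eq_ker_add_imCl f
  have h2 : KZero.cl Y = K0Cat.imCl f + KZero.cl (cokernel f) :=
    K0Cat.cl_ses (ShortComplex.mk (Abelian.image.ι f) (cokernel.π f) (kernel.condition _))
      { exact := ShortComplex.exact_kernel _ }
  rw [h1, h2]
  abel

theorem cl_sub_mem_range {X Y : A} (e : L.obj X ≅ L.obj Y) :
    KZero.cl X - KZero.cl Y ∈ (incl P).range := by
  haveI := ObjectProperty.SerreClassLocalization.preservesMonomorphisms (L := L) (P := P)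
  obtain ⟨r, hr⟩ := Localization.exists_rightFraction L P.isoModSerre e.hom
  have hs : IsIso (L.map r.s) := Localization.inverts L P.isoModSerre r.s r.hs
  have hf : IsIso (L.map r.f) := by
    have h2 : L.map r.f = L.map r.s ≫ e.hom := by
      rw [hr, MorphismProperty.RightFraction.map_s_comp_map]
    rw [h2]
    infer_instance
  have hmem : ∀ {Z W : A} (f : Z ⟶ W), IsIso (L.map f) → KZero.cl Z - KZero.cl W ∈ (incl P).range := by
    intro Z W f hf
    obtain ⟨hk, hc⟩ := prop_kernel_of_isIso P L f hf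
    exact ⟨KZero.clSub P (kernel f) - KZero.clSub P (cokernel f), by
      rw [map_sub, incl_clSub P hk, incl_clSub P hc, cl_eq_ker_sub_coker f]⟩
  have := AddSubgroup.sub_mem _ (hmem r.f hf) (hmem r.s hs)
  simpa using this

/-- The map induced by the quotient functor. -/
noncomputable def proj : KZero.K0 A →+ KZero.K0 Q :=
  K0Cat.lift (fun X => KZero.cl (L.obj X)) fun S hS => K0Cat.cl_ses (S.map L) (hS.map_of_exact L)

theorem proj_cl (X : A) : proj L (KZero.cl X) = KZero.cl (L.obj X) := K0Cat.lift_cl _ _ X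

include P in
theorem proj_surjective : Function.Surjective (proj L) := by
  haveI := Localization.essSurj L P.isoModSerre
  intro y
  induction y using K0Cat.cl_induction with
  | h0 => exact ⟨0, map_zero _⟩
  | hcl Y => exact ⟨KZero.cl (L.objPreimage Y), (proj_cl L _).trans (K0Cat.cl_iso (L.objObjPreimageIso Y))⟩
  | hneg a ha => obtain ⟨b, rfl⟩ := ha; exact ⟨-b, map_neg _ _⟩
  | hadd a b ha hb =>
    obtain ⟨a', rfl⟩ := ha; obtain ⟨b', rfl⟩ := hb
    exact ⟨a' + b', map_add _ _ _⟩

theorem ker_proj : (proj L).ker = (incl P).range := by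
  haveI := Localization.essSurj L P.isoModSerre
  haveI := Localization.essSurj_mapComposableArrows L P.isoModSerre 1
  apply le_antisymm
  · let R := (incl P).range
    let g : Q → KZero.K0 A ⧸ R := fun Y => QuotientAddGroup.mk (KZero.cl (L.objPreimage Y))
    have huniq : ∀ (X : A) (Y : Q), (L.obj X ≅ Y) → g Y = QuotientAddGroup.mk (KZero.cl X) := fun X Y e =>
      QuotientAddGroup.eq_iff_sub_mem.2 (cl_sub_mem_range P L (L.objObjPreimageIso Y ≪≫ e.symm))
    let back : KZero.K0 Q →+ KZero.K0 A ⧸ R := K0Cat.lift g fun S hS => by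
      obtain ⟨c, ⟨ec⟩⟩ := Functor.EssSurj.mem_essImage (F := L.mapComposableArrows 1) (ComposableArrows.mk₁ S.g)
      let f := c.map' 0 1
      let e0 : L.obj (c.obj 0) ≅ S.X₂ := ec.app 0
      let e1 : L.obj (c.obj 1) ≅ S.X₃ := ec.app 1
      haveI := hS.mono_f
      haveI := hS.epi_g
      have hsq : L.map f ≫ e1.hom = e0.hom ≫ S.g := ec.hom.naturality (homOfLE (Nat.zero_le 1) : (0 : Fin 2) ⟶ 1)
      have ek : L.obj (kernel f) ≅ S.X₁ := PreservesKernel.iso L f ≪≫ kernel.mapIso _ _ e0 e1 hsq ≪≫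
        (kernelIsKernel S.g).conePointUniqueUpToIso hS.fIsKernel
      have hcok : P (cokernel f) := by
        haveI : Epi (L.map f) := by
          have : L.map f = (e0.hom ≫ S.g) ≫ e1.inv := by rw [← hsq, Category.assoc, Iso.hom_inv_id, Category.comp_id]
          rw [this]
          infer_instance
        exact (ObjectProperty.SerreClassLocalization.isZero_obj_iff (L := L) (P := P) _).1
          ((isZero_cokernel_of_epi (L.map f)).of_iso (PreservesCokernel.iso L f))
      rw [huniq _ _ e0, huniq _ _ ek, huniq _ _ e1, ← QuotientAddGroup.mk_add]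
      refine QuotientAddGroup.eq_iff_sub_mem.2 ⟨-KZero.clSub P (cokernel f), ?_⟩
      rw [map_neg, incl_clSub P hcok]
      have := cl_eq_ker_sub_coker f
      change KZero.cl (c.obj 0) - KZero.cl (c.obj 1) = KZero.cl (kernel f) - KZero.cl (cokernel f) at this
      rw [← sub_sub, sub_right_comm, this, sub_right_comm, sub_self, zero_sub]
    intro x hx
    have hback : back.comp (proj L) = QuotientAddGroup.mk' R := by
      refine AddMonoidHom.ext fun z => ?_
      induction z using K0Cat.cl_induction with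
      | h0 => simp
      | hcl X =>
        rw [AddMonoidHom.comp_apply, proj_cl, K0Cat.lift_cl]
        exact huniq X _ (Iso.refl _)
      | hneg a ha => rw [map_neg, map_neg, ha]
      | hadd a b ha hb => rw [map_add, map_add, ha, hb]
    have := DFunLike.congr_fun hback x
    rw [AddMonoidHom.comp_apply, AddMonoidHom.mem_ker.1 hx, map_zero] at this
    exact (QuotientAddGroup.eq_zero_iff _).1 this.symm
  · rintro _ ⟨x, rfl⟩
    rw [AddMonoidHom.mem_ker]
    induction x using K0Cat.clSub_induction with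
    | h0 => simp
    | hcl X hX =>
      rw [incl_clSub P hX, proj_cl]
      exact K0Cat.cl_of_isZero ((ObjectProperty.SerreClassLocalization.isZero_obj_iff (L := L) (P := P) X).2 hX)
    | hneg a ha => rw [map_neg, map_neg, ha, neg_zero]
    | hadd a b ha hb => rw [map_add, map_add, ha, hb, add_zero]

end Groth.Agent.K0Serre9
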