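import Groth.Agent.Lib.K0Cat.Basic
import Mathlib.Algebra.Homology.ShortComplex.Preadditive
import Mathlib.Algebra.FreeAbelianGroup.Finsupp
import Mathlib.Data.List.Perm.Basic
import Mathlib.CategoryTheory.Abelian.Refinements
import Mathlib.Tactic.Abel

/-!
# Equalities in `K₀` of an abelian category via exact periodic pairs
-/

set_option autoImplicit false
set_option linter.unusedSectionVars false
set_option linter.style.haveILetI false
set_option backward.isDefEq.respectTransparency false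

universe v u

open CategoryTheory CategoryTheory.Limits ZeroObject

namespace Groth.Agent.K0Serre9

variable {A : Type u} [Category.{v} A] [Abelian A]

/-- The direct sum of a list of objects. -/
noncomputable def sumL : List A → A := List.foldr (fun X Y => X ⊞ Y) 0

/-- The sum of a list of objects in the free abelian group. -/
noncomputable def fc (l : List A) : FreeAbelianGroup A := (l.map FreeAbelianGroup.of).sum

/-- Cross interchange in a biproduct. -/
noncomputable def swapLeft (X Y Z : A) : X ⊞ (Y ⊞ Z) ≅ Y ⊞ (X ⊞ Z) where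
  hom := biprod.lift (biprod.snd ≫ biprod.fst) (biprod.lift biprod.fst (biprod.snd ≫ biprod.snd))
  inv := biprod.lift (biprod.snd ≫ biprod.fst) (biprod.lift biprod.fst (biprod.snd ≫ biprod.snd))
  hom_inv_id := by ext <;> simp
  inv_hom_id := by ext <;> simp

theorem nonempty_iso_of_perm {l l' : List A} (h : l.Perm l') : Nonempty (sumL l ≅ sumL l') := by
  induction h with
  | nil => exact ⟨Iso.refl _⟩
  | cons x _ ih => exact ⟨biprod.mapIso (Iso.refl x) ih.some⟩
  | swap x y l => exact ⟨swapLeft y x (sumL l)⟩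
  | trans _ _ ih₁ ih₂ => exact ⟨ih₁.some ≪≫ ih₂.some⟩

/-- Concatenation corresponds to biproduct. -/
theorem nonempty_sumL_append (l l' : List A) : Nonempty (sumL (l ++ l') ≅ sumL l ⊞ sumL l') := by
  induction l with
  | nil =>
    exact ⟨{ hom := biprod.lift 0 (𝟙 _)
             inv := biprod.snd
             hom_inv_id := by simp
             inv_hom_id := by
               refine biprod.hom_ext _ _ ?_ (by simp)
               exact (isZero_zero A).eq_of_tgt _ _ }⟩
  | cons x l ih => exact ⟨biprod.mapIso (Iso.refl x) ih.some ≪≫ (biprod.associator _ _ _).symm⟩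

theorem perm_of_fc_eq {l l' : List A} (h : fc l = fc l') : l.Perm l' := by
  classical
  have key : ∀ (m : List A) (x : A), FreeAbelianGroup.toFinsupp (fc m) x = (m.count x : ℤ) := by
    intro m x
    induction m with
    | nil => simp [fc]
    | cons y m ih =>
      have : fc (y :: m) = FreeAbelianGroup.of y + fc m := by simp [fc]
      rw [this, map_add, Finsupp.add_apply, ih, FreeAbelianGroup.toFinsupp_of, List.count_cons]
      by_cases hxy : y = x
      · subst hxy; simp [add_comm]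
      · simp [hxy, Ne.symm hxy]
  exact List.perm_iff_count.2 fun x => by exact_mod_cast (key l x).symm.trans ((congrArg (fun z => FreeAbelianGroup.toFinsupp z x) h).trans (key l' x))

/-- The short complex of two composable maps of a periodic pair. -/
abbrev sc {M N : A} (φ : M ⟶ N) (ψ : N ⟶ M) (h : φ ≫ ψ = 0) : ShortComplex A := ShortComplex.mk φ ψ h

section Biprod

variable {M N M' N' : A} {φ : M ⟶ N} {ψ : N ⟶ M} {φ' : M' ⟶ N'} {ψ' : N' ⟶ M'}

theorem map_comp_map (h : φ ≫ ψ = 0) (h' : φ' ≫ ψ' = 0) : biprod.map φ φ' ≫ biprod.map ψ ψ' = 0 := by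
  ext <;> simp [reassoc_of% h, reassoc_of% h', h, h']

/-- Adding an exact pair does not change homology. -/
theorem nonempty_homology_biprod (h : φ ≫ ψ = 0) (h' : φ' ≫ ψ' = 0) (hz : (sc φ' ψ' h').Exact) :
    Nonempty ((sc (biprod.map φ φ') (biprod.map ψ ψ') (map_comp_map h h')).homology ≅ (sc φ ψ h).homology) := by
  let S := sc (biprod.map φ φ') (biprod.map ψ ψ') (map_comp_map h h')
  let p₁ : S ⟶ sc φ ψ h := ShortComplex.homMk biprod.fst biprod.fst biprod.fst (biprod.map_fst _ _).symm (biprod.map_fst _ _).symm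
  let i₁ : sc φ ψ h ⟶ S := ShortComplex.homMk biprod.inl biprod.inl biprod.inl (biprod.inl_map _ _) (biprod.inl_map _ _)
  let p₂ : S ⟶ sc φ' ψ' h' := ShortComplex.homMk biprod.snd biprod.snd biprod.snd (biprod.map_snd _ _).symm (biprod.map_snd _ _).symm
  let i₂ : sc φ' ψ' h' ⟶ S := ShortComplex.homMk biprod.inr biprod.inr biprod.inr (biprod.inr_map _ _) (biprod.inr_map _ _)
  have htot : p₁ ≫ i₁ + p₂ ≫ i₂ = 𝟙 S := by ext <;> simp [S, p₁, i₁, p₂, i₂]
  refine ⟨⟨ShortComplex.homologyMap p₁, ShortComplex.homologyMap i₁, ?_, ?_⟩⟩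
  · have hH : ShortComplex.homologyMap (p₁ ≫ i₁) + ShortComplex.homologyMap (p₂ ≫ i₂) =
        ShortComplex.homologyMap (𝟙 S) := by
      rw [← htot]; exact (ShortComplex.homologyMap_add _ _).symm
    rw [ShortComplex.homologyMap_comp, ShortComplex.homologyMap_comp,
      ShortComplex.homologyMap_id, ((ShortComplex.exact_iff_isZero_homology _).1 hz).eq_of_tgt (ShortComplex.homologyMap p₂) 0, zero_comp,
      add_zero] at hH
    exact hH
  · rw [← ShortComplex.homologyMap_comp, ← ShortComplex.homologyMap_id]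
    congr 1
    ext <;> simp [p₁, i₁]

end Biprod

/-- `z` is the difference of the two sides of an exact periodic pair. -/
def Rep (z : FreeAbelianGroup A) : Prop :=
  ∃ (l l' : List A) (φ : sumL l ⟶ sumL l') (ψ : sumL l' ⟶ sumL l) (h₁ : φ ≫ ψ = 0) (h₂ : ψ ≫ φ = 0),
    (sc φ ψ h₁).Exact ∧ (sc ψ φ h₂).Exact ∧ z = fc l - fc l'

theorem exact_conj {M N M₁ N₁ : A} (a : M₁ ≅ M) (b : N₁ ≅ N) {φ : M ⟶ N} {ψ : N ⟶ M} (h : φ ≫ ψ = 0)
    (he : (sc φ ψ h).Exact) (h' : (a.hom ≫ φ ≫ b.inv) ≫ (b.hom ≫ ψ ≫ a.inv) = 0) :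
    (sc (a.hom ≫ φ ≫ b.inv) (b.hom ≫ ψ ≫ a.inv) h').Exact :=
  ShortComplex.exact_of_iso (ShortComplex.isoMk a.symm b.symm a.symm (by simp) (by simp)) he

theorem rep_add {z z' : FreeAbelianGroup A} (hz : Rep z) (hz' : Rep z') : Rep (z + z') := by
  obtain ⟨l, l', φ, ψ, h₁, h₂, e₁, e₂, rfl⟩ := hz
  obtain ⟨m, m', φ', ψ', k₁, k₂, f₁, f₂, rfl⟩ := hz'
  obtain ⟨a⟩ := nonempty_sumL_append l m
  obtain ⟨b⟩ := nonempty_sumL_append l' m'
  have w₁ : (a.hom ≫ biprod.map φ φ' ≫ b.inv) ≫ (b.hom ≫ biprod.map ψ ψ' ≫ a.inv) = 0 := by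
    simp [reassoc_of% (map_comp_map h₁ k₁)]
  have w₂ : (b.hom ≫ biprod.map ψ ψ' ≫ a.inv) ≫ (a.hom ≫ biprod.map φ φ' ≫ b.inv) = 0 := by
    simp [reassoc_of% (map_comp_map h₂ k₂)]
  refine ⟨l ++ m, l' ++ m', _, _, w₁, w₂, exact_conj a b (map_comp_map h₁ k₁) ?_ w₁,
    exact_conj b a (map_comp_map h₂ k₂) ?_ w₂, ?_⟩
  · exact (ShortComplex.exact_iff_isZero_homology _).2 (((ShortComplex.exact_iff_isZero_homology _).1 e₁).of_iso (nonempty_homology_biprod h₁ k₁ f₁).some)
  · exact (ShortComplex.exact_iff_isZero_homology _).2 (((ShortComplex.exact_iff_isZero_homology _).1 e₂).of_iso (nonempty_homology_biprod h₂ k₂ f₂).some)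
  · simp only [fc, List.map_append, List.sum_append]
    abel

theorem rep_of_mem {z : FreeAbelianGroup A} (hz : z ∈ KZero.relAb A) : Rep z := by
  rw [KZero.relAb] at hz
  induction hz using AddSubgroup.closure_induction with
  | zero =>
    exact ⟨[], [], 0, 0, zero_comp, zero_comp, ShortComplex.exact_of_isZero_X₂ _ (isZero_zero A),
      ShortComplex.exact_of_isZero_X₂ _ (isZero_zero A), by simp⟩
  | add x y _ _ hx hy => exact rep_add hx hy
  | neg x _ hx =>
    obtain ⟨l, l', φ, ψ, h₁, h₂, e₁, e₂, rfl⟩ := hx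
    exact ⟨l', l, ψ, φ, h₂, h₁, e₂, e₁, neg_sub _ _⟩
  | mem x hx =>
    obtain ⟨S, hS, rfl⟩ := hx
    haveI := hS.mono_f
    haveI := hS.epi_g
    let φ : sumL [S.X₂] ⟶ sumL [S.X₁, S.X₃] := biprod.fst ≫ S.g ≫ biprod.inl ≫ biprod.inr
    let ψ : sumL [S.X₁, S.X₃] ⟶ sumL [S.X₂] := biprod.fst ≫ S.f ≫ biprod.inl
    have h₁ : φ ≫ ψ = 0 := by simp [φ, ψ]
    have h₂ : ψ ≫ φ = 0 := by simp [φ, ψ]
    have hzero : IsZero (sumL ([] : List A)) := isZero_zero A
    refine ⟨[S.X₂], [S.X₁, S.X₃], φ, ψ, h₁, h₂, ?_, ?_, by simp [fc]; abel⟩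
    · rw [ShortComplex.exact_iff_exact_up_to_refinements]
      intro T x hx
      have hx1 : x ≫ biprod.fst = 0 := by
        have h := congrArg (· ≫ biprod.fst) hx
        simp [ψ] at h
        rw [← cancel_mono S.f, Category.assoc, zero_comp]
        exact h
      obtain ⟨T', π, hπ, y, hy⟩ := surjective_up_to_refinements_of_epi S.g (x ≫ biprod.snd ≫ biprod.fst)
      refine ⟨T', π, hπ, y ≫ biprod.inl, biprod.hom_ext _ _ ?_ (biprod.hom_ext _ _ ?_ ?_)⟩
      · simp [φ]
        exact (congrArg (π ≫ ·) hx1).trans comp_zero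
      · simp [φ, ← hy]
      · exact hzero.eq_of_tgt _ _
    · rw [ShortComplex.exact_iff_exact_up_to_refinements]
      intro T x hx
      have hx1 : (x ≫ biprod.fst) ≫ S.g = 0 := by
        have h := congrArg (· ≫ biprod.snd ≫ biprod.fst) hx
        simpa [φ] using h
      obtain ⟨T', π, hπ, y, hy⟩ := hS.exact.exact_up_to_refinements (x ≫ biprod.fst) hx1
      refine ⟨T', π, hπ, y ≫ biprod.inl, biprod.hom_ext _ _ ?_ ?_⟩
      · simp [ψ, ← hy]
      · exact hzero.eq_of_tgt _ _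

/-- Equal classes in `K₀` come from a periodic pair with the two objects as homology. -/
theorem exists_pair {X Y : A} (h : KZero.cl X = KZero.cl Y) :
    ∃ (M : A) (φ ψ : M ⟶ M) (h₁ : φ ≫ ψ = 0) (h₂ : ψ ≫ φ = 0),
      Nonempty ((sc φ ψ h₁).homology ≅ X) ∧ Nonempty ((sc ψ φ h₂).homology ≅ Y) := by
  have hm : FreeAbelianGroup.of X - FreeAbelianGroup.of Y ∈ KZero.relAb A := by
    rw [← QuotientAddGroup.eq_zero_iff, QuotientAddGroup.mk_sub, sub_eq_zero]
    exact h
  obtain ⟨l, l', φ, ψ, h₁, h₂, e₁, e₂, he⟩ := rep_of_mem hm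
  have hperm : (X :: l').Perm (Y :: l) := perm_of_fc_eq (by
    simp only [fc, List.map_cons, List.sum_cons] at he ⊢
    rw [sub_eq_sub_iff_add_eq_add] at he
    rw [he, add_comm])
  obtain ⟨θ⟩ := nonempty_iso_of_perm hperm
  let θ' : X ⊞ sumL l' ≅ Y ⊞ sumL l := θ
  let a : Y ⊞ sumL l ⟶ X ⊞ sumL l' := biprod.map 0 φ
  let b : X ⊞ sumL l' ⟶ Y ⊞ sumL l := biprod.map 0 ψ
  have hab : a ≫ b = 0 := map_comp_map zero_comp h₁
  have hba : b ≫ a = 0 := map_comp_map zero_comp h₂
  have w₁ : (a ≫ θ'.hom) ≫ (θ'.inv ≫ b) = 0 := by simp [hab]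
  have w₂ : (θ'.inv ≫ b) ≫ (a ≫ θ'.hom) = 0 := by simp [reassoc_of% hba]
  refine ⟨Y ⊞ sumL l, a ≫ θ'.hom, θ'.inv ≫ b, w₁, w₂, ?_, ?_⟩
  · let e : sc (a ≫ θ'.hom) (θ'.inv ≫ b) w₁ ≅ sc a b hab :=
      ShortComplex.isoMk (Iso.refl _) θ'.symm (Iso.refl _) (by simp) (by simp)
    exact ⟨ShortComplex.homologyMapIso e ≪≫ (nonempty_homology_biprod zero_comp h₁ e₁).some ≪≫
      (ShortComplex.LeftHomologyData.ofZeros (sc (0 : Y ⟶ X) (0 : X ⟶ Y) zero_comp) rfl rfl).homologyIso⟩
  · let e : sc (θ'.inv ≫ b) (a ≫ θ'.hom) w₂ ≅ sc b a hba :=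
      ShortComplex.isoMk θ'.symm (Iso.refl _) θ'.symm (by simp) (by simp)
    exact ⟨ShortComplex.homologyMapIso e ≪≫ (nonempty_homology_biprod zero_comp h₂ e₂).some ≪≫
      (ShortComplex.LeftHomologyData.ofZeros (sc (0 : X ⟶ Y) (0 : Y ⟶ X) zero_comp) rfl rfl).homologyIso⟩

/-- The two homologies of a periodic pair have the same class. -/
theorem cl_homology_eq {M : A} (φ ψ : M ⟶ M) (h₁ : φ ≫ ψ = 0) (h₂ : ψ ≫ φ = 0) :
    KZero.cl (sc φ ψ h₁).homology = KZero.cl (sc ψ φ h₂).homology := by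
  have key : ∀ (φ ψ : M ⟶ M) (h : φ ≫ ψ = 0),
      KZero.cl (sc φ ψ h).homology + K0Cat.imCl φ = KZero.cl (kernel ψ) := by
    intro φ ψ h
    let i : Abelian.image φ ⟶ kernel ψ :=
      kernel.lift ψ (Abelian.image.ι φ) (by
        rw [← cancel_epi (Abelian.factorThruImage φ), ← Category.assoc, Abelian.image.fac, h, comp_zero])
    have hexact : (ShortComplex.mk (kernel.lift ψ φ h) (cokernel.π (kernel.lift ψ φ h)) (cokernel.condition _)).Exact :=
      ShortComplex.exact_cokernel _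
    let d := (ShortComplex.LeftHomologyData.ofHasKernelOfHasCokernel (sc φ ψ h))
    have h2 := K0Cat.cl_eq_ker_add_imCl (cokernel.π (kernel.lift ψ φ h))
    rw [h2]
    have hi : K0Cat.imCl (cokernel.π (kernel.lift ψ φ h)) = KZero.cl (sc φ ψ h).homology := by
      refine (K0Cat.cl_iso ?_).trans (K0Cat.cl_iso d.homologyIso.symm)
      exact (asIso (Abelian.image.ι (cokernel.π (kernel.lift ψ φ h))))
    have hk : KZero.cl (kernel (cokernel.π (kernel.lift ψ φ h))) = K0Cat.imCl φ := by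
      have h3 := K0Cat.cl_eq_ker_add_imCl φ
      have h4 := K0Cat.cl_eq_ker_add_imCl (kernel.lift ψ φ h)
      have he : KZero.cl (kernel (kernel.lift ψ φ h)) = KZero.cl (kernel φ) := K0Cat.cl_iso
        ((kernelCompMono (kernel.lift ψ φ h) (kernel.ι ψ)).symm ≪≫ kernelIsoOfEq (kernel.lift_ι _ _ _))
      rw [h3, he] at h4
      exact (add_left_cancel h4).symm
    rw [hi, hk, add_comm]
  have a := key φ ψ h₁
  have b := key ψ φ h₂
  have c := K0Cat.cl_eq_ker_add_imCl ψ
  have d := K0Cat.cl_eq_ker_add_imCl φ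
  rw [← a] at c
  rw [← b] at d
  rw [c] at d
  have h3 : KZero.cl (sc φ ψ h₁).homology + K0Cat.imCl φ + K0Cat.imCl ψ =
      KZero.cl (sc ψ φ h₂).homology + K0Cat.imCl φ + K0Cat.imCl ψ := by rw [d]; abel
  exact add_right_cancel (add_right_cancel h3)

end Groth.Agent.K0Serre9
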